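import Cfsg.Agent.H633.SimpleGood
import Cfsg.Agent.H514.K4B0.Rows

/-!
# The centralizer of a Sylow 2-subgroup is a 2-group (S4925, helper133)

`ct_alt`, `ct_lieTwo`, `ct_tits`, `ct_spor` : the alternating groups, the groups of Lie type of characteristic 2, the
Tits group and the sporadic groups; `rowAB_of_ct` : `RowA` implies `RowAB M` for a group with this property.
-/

set_option autoImplicit false
open Cfsg

namespace Cfsg.Agent.H133.K4B0.TwoC

open Subgroup Cfsg.Agent.H633.CentTwo

universe u

variable {S : Type u} [Group S]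

/-- Lie type of characteristic 2 -/
theorem ct_lieTwo [Finite S] [IsSimpleGroup S] (hna : ¬ IsMulCommutative S) (h : IsLieTypeChar 2 S) : CT S := by
  have hf : Fact (Nat.Prime 2) := ⟨Nat.prime_two⟩
  intro T
  refine isPGroup_of_odd fun x hx ho => ?_
  have h1 : MulAut.conj x = 1 := by
    refine S4613.result 2 h (MulAut.conj x) (fun h4 => ho (h4.trans (orderOf_map_dvd MulAut.conj x))) T ?_
    intro y hy
    rw [MulAut.conj_apply, ← mem_centralizer_iff.1 hx y hy, mul_inv_cancel_right]
  have h2 : x ∈ center S := by
    rw [mem_center_iff]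
    intro g
    have h3 := congrArg (fun f : MulAut S => f g) h1
    simp only [MulAut.conj_apply, MulAut.one_apply] at h3
    exact (mul_inv_eq_iff_eq_mul.1 h3).symm
  rwa [Cfsg.Agent.H633.SimpleGood.center_eq_bot hna, mem_bot] at h2

/-- the alternating groups -/
theorem ct_alt {n : ℕ} (hn : 5 ≤ n) : CT (alternatingGroup (Fin n)) := by
  rcases Nat.lt_or_ge n 6 with h | h
  · obtain rfl : n = 5 := by omega
    have hs : IsSimpleGroup (alternatingGroup (Fin 5)) := alternatingGroup.isSimpleGroup (by simp)
    refine ct_lieTwo (fun hc => ?_) (Omega.KFacts.charTwo_alt_five (MulEquiv.refl _))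
    have h1 : (center (alternatingGroup (Fin 5))) = ⊤ := by
      rw [eq_top_iff]
      intro x _
      rw [mem_center_iff]
      intro g
      exact hc.is_comm.comm _ _
    have h2 : center (alternatingGroup (Fin 5)) = ⊥ := alternatingGroup.center_eq_bot (by simp)
    rw [h1] at h2
    have h3 : Subsingleton (alternatingGroup (Fin 5)) := Subgroup.subsingleton_iff.1 (subsingleton_of_bot_eq_top h2.symm)
    exact absurd h3 (not_subsingleton_iff_nontrivial.2 inferInstance)
  · exact CT.of_selfN fun T => H94.Syl2Sym.alt_selfNorm (by rw [Fintype.card_fin]; omega) T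

/-- the Tits group -/
theorem ct_tits [Finite S] (h : Lie.IsoTits S) : CT S := tits h

/-- the sporadic groups -/
theorem ct_spor [Finite S] (h : IsSporadicGroup S) : CT S := spor h

/-- `RowA` implies `RowAB` for the groups with `CT`. -/
theorem rowAB_of_ct [Finite S] {M : Ideal AlgInt} (hM : IsPModular 2 M) (hC : CT S) (h : H714.K4.RowA S) :
    Cfsg.Agent.H514.K4B0.RowAB M S :=
  Cfsg.Agent.H514.K4B0.rowAB_of_rowA hM default (hC default) h

end Cfsg.Agent.H133.K4B0.TwoC
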